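import Cfsg.Agent.Theta24.Poisson

/-!
# The theta series of an even unimodular lattice of rank 24

The theta series is a modular form of level one and weight 12; its q-expansion coefficients are the
numbers of lattice vectors of the given norms.
-/

set_option autoImplicit false
set_option linter.unusedSectionVars false

open Real Complex Finset Matrix ModularForm Filter MatrixGroups
open UpperHalfPlane hiding I
open scoped Topology

namespace Cfsg.Agent.Theta24

variable {n : ℕ}

/-- The integral quadratic form of an integer matrix. -/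
def qZ (B : Matrix (Fin n) (Fin n) ℤ) (x : Fin n → ℤ) : ℤ := x ⬝ᵥ (B *ᵥ x)

/-- An integer matrix as a real matrix. -/
noncomputable def realMat (B : Matrix (Fin n) (Fin n) ℤ) : Matrix (Fin n) (Fin n) ℝ :=
  B.map (Int.castRingHom ℝ)

/-- The theta series of a form as a function of a complex variable. -/
noncomputable def theta (B : Matrix (Fin n) (Fin n) ℤ) (z : ℂ) : ℂ :=
  ∑' x : Fin n → ℤ, cexp (π * I * z * (qZ B x : ℂ))

/-- The number of vectors of norm `2 m`. -/
noncomputable def repCount (B : Matrix (Fin n) (Fin n) ℤ) (m : ℕ) : ℕ :=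
  {x : Fin n → ℤ | qZ B x = 2 * (m : ℤ)}.ncard

lemma qR_realMat (B : Matrix (Fin n) (Fin n) ℤ) (x : Fin n → ℤ) :
    qR (realMat B) (rv x) = (qZ B x : ℝ) := by
  simp only [qR, qZ, realMat, rv, dotProduct, Matrix.mulVec, Finset.mul_sum, Int.cast_sum,
    Int.cast_mul, Matrix.map_apply, eq_intCast]
  exact Finset.sum_congr rfl fun i _ => Finset.sum_congr rfl fun j _ => by ring

/-- The hypotheses on the Gram matrix. -/
structure EvenUnimodular (B : Matrix (Fin n) (Fin n) ℤ) : Prop where
  symm : B.IsSymm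
  pos : ∀ x : Fin n → ℤ, x ≠ 0 → 0 < qZ B x
  even : ∀ x : Fin n → ℤ, (2 : ℤ) ∣ qZ B x
  det : B.det = 1

namespace EvenUnimodular

variable {B : Matrix (Fin n) (Fin n) ℤ} (hB : EvenUnimodular B)
include hB

lemma qZ_nonneg (x : Fin n → ℤ) : 0 ≤ qZ B x := by
  rcases eq_or_ne x 0 with rfl | hx
  · simp [qZ]
  · exact (hB.pos x hx).le

lemma real_symm : (realMat B).IsSymm := hB.symm.map _

lemma real_psd (v : Fin n → ℝ) : 0 ≤ qR (realMat B) v := by
  have hlim : Tendsto (fun N : ℕ => fun i => (⌊v i * N⌋ : ℝ) / N) atTop (𝓝 v) := by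
    refine tendsto_pi_nhds.mpr fun i => ?_
    have h0 : Tendsto (fun N : ℕ => v i - (1 : ℝ) / N) atTop (𝓝 (v i)) := by
      simpa using tendsto_const_nhds.sub (tendsto_const_div_atTop_nhds_zero_nat (1 : ℝ))
    refine tendsto_of_tendsto_of_tendsto_of_le_of_le' h0 tendsto_const_nhds ?_ ?_ <;>
      filter_upwards [eventually_gt_atTop 0] with N hN
    · have hN' : (0 : ℝ) < N := by exact_mod_cast hN
      rw [le_div_iff₀ hN', sub_mul, div_mul_cancel₀ _ hN'.ne']
      exact (Int.sub_one_lt_floor _).le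
    · have hN' : (0 : ℝ) < N := by exact_mod_cast hN
      rw [div_le_iff₀ hN']
      exact Int.floor_le _
  have hcont : Continuous fun w : Fin n → ℝ => qR (realMat B) w := by unfold qR; fun_prop
  refine ge_of_tendsto' ((hcont.tendsto v).comp hlim) fun N => ?_
  have e : qR (realMat B) (fun i => (⌊v i * N⌋ : ℝ) / N) =
      qR (realMat B) (rv fun i => ⌊v i * N⌋) / (N : ℝ) ^ 2 := by
    simp only [qR, rv, Finset.sum_div]
    exact Finset.sum_congr rfl fun i _ => Finset.sum_congr rfl fun j _ => by
      ring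
  rw [Function.comp_apply, e, qR_realMat]
  exact div_nonneg (by exact_mod_cast hB.qZ_nonneg _) (sq_nonneg _)

lemma mul_adj : realMat B * realMat B.adjugate = 1 := by
  rw [realMat, realMat, ← Matrix.map_mul, Matrix.mul_adjugate, hB.det, one_smul, Matrix.map_one] <;>
    simp

lemma norm_term (z : ℂ) (x : Fin n → ℤ) :
    ‖cexp (π * I * z * (qZ B x : ℂ))‖ = Real.exp (-π * z.im * qZ B x) := by
  rw [Complex.norm_exp]
  congr 1
  simp [Complex.mul_re, Complex.mul_im]

lemma summable_exp {t : ℝ} (ht : 0 < t) :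
    Summable fun x : Fin n → ℤ => Real.exp (-π * t * qZ B x) := by
  refine (summable_lterm hB.real_symm hB.real_psd hB.mul_adj ht 0).congr fun x => ?_
  rw [lterm, Complex.norm_exp]
  congr 1
  simp only [Pi.zero_apply, add_zero]
  rw [show (fun i => (x i : ℂ)) = fun i => ((rv x i : ℝ) : ℂ) from funext fun i => by simp [rv],
    qC_ofReal, qR_realMat]
  simp

lemma summable_theta {z : ℂ} (hz : 0 < z.im) :
    Summable fun x : Fin n → ℤ => cexp (π * I * z * (qZ B x : ℂ)) :=
  Summable.of_norm <| (hB.summable_exp hz).congr fun x => (hB.norm_term z x).symm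

lemma finite_level (m : ℤ) : {x : Fin n → ℤ | qZ B x = m}.Finite := by
  have h := (hB.summable_exp one_pos).tendsto_cofinite_zero
  have h2 : ∀ᶠ x : Fin n → ℤ in cofinite,
      Real.exp (-π * 1 * qZ B x) < Real.exp (-π * 1 * m) := h.eventually_lt_const (Real.exp_pos _)
  refine (Filter.eventually_cofinite.mp h2).subset fun x hx => ?_
  simp only [Set.mem_ofPred_eq] at hx ⊢
  simp [hx]

lemma theta_ofReal {t : ℝ} :
    theta B (I * t) = ((∑' x : Fin n → ℤ, Real.exp (-π * t * qZ B x) : ℝ) : ℂ) := by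
  rw [theta, Complex.ofReal_tsum]
  refine tsum_congr fun x => ?_
  rw [Complex.ofReal_exp]
  congr 1
  push_cast
  ring_nf
  rw [I_sq]
  ring

lemma theta_axis_ne_zero {t : ℝ} (ht : 0 < t) : theta B (I * t) ≠ 0 := by
  rw [hB.theta_ofReal, Complex.ofReal_ne_zero]
  exact ((hB.summable_exp ht).tsum_pos (fun x => (Real.exp_pos _).le) 0 (Real.exp_pos _)).ne'

lemma theta_axis {t : ℝ} (ht : 0 < t) :
    theta B (I * t) = ((1 / Real.sqrt t ^ n : ℝ) : ℂ) * theta B (I * (1 / t : ℝ)) := by
  obtain ⟨C, hC, hP⟩ := poisson n _ _ hB.real_symm hB.real_psd hB.mul_adj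
  have key : ∀ t : ℝ, 0 < t →
      theta B (I * t) = ((C / Real.sqrt t ^ n : ℝ) : ℂ) * theta B (I * (1 / t : ℝ)) := by
    intro t ht
    have h := hP t ht 0
    have eL : ∀ x : Fin n → ℤ,
        lterm (realMat B) t 0 x = cexp (π * I * (I * t) * (qZ B x : ℂ)) := by
      intro x
      rw [lterm]
      congr 1
      simp only [Pi.zero_apply, add_zero]
      rw [show (fun i => (x i : ℂ)) = fun i => ((rv x i : ℝ) : ℂ) from
        funext fun i => by simp [rv], qC_ofReal, qR_realMat]
      push_cast
      ring_nf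
      rw [I_sq]
      ring
    have hinv : B * B.adjugate = 1 := by rw [Matrix.mul_adjugate, hB.det, one_smul]
    let e : (Fin n → ℤ) ≃ (Fin n → ℤ) :=
      { toFun := fun x => B *ᵥ x
        invFun := fun y => B.adjugate *ᵥ y
        left_inv := fun x => by
          simp [Matrix.mulVec_mulVec, Matrix.adjugate_mul, hB.det]
        right_inv := fun y => by simp [Matrix.mulVec_mulVec, hinv] }
    have eR : ∀ x : Fin n → ℤ, rterm (realMat B.adjugate) t 0 (e x) =
        cexp (π * I * (I * (1 / t : ℝ)) * (qZ B x : ℂ)) := by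
      intro x
      rw [rterm]
      congr 1
      have h1 : rv (e x) = (realMat B).mulVec (rv x) := funext fun i => by
        simp [e, rv, realMat, Matrix.mulVec, dotProduct]
      rw [h1, qR_mulVec_inv (mul_eq_one_comm.mp hB.mul_adj), qR_realMat]
      simp only [Pi.zero_apply, mul_zero, Finset.sum_const_zero, add_zero]
      push_cast
      ring_nf
      rw [I_sq]
      ring
    rw [tsum_congr eL, ← e.tsum_eq (rterm (realMat B.adjugate) t 0), tsum_congr eR] at h
    exact h
  have h1 := key 1 one_pos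
  simp only [Real.sqrt_one, one_pow, div_one] at h1
  have hne := hB.theta_axis_ne_zero one_pos
  have hC1 : (C : ℂ) = 1 := mul_right_cancel₀ hne (by rw [one_mul]; exact h1.symm)
  rw [key t ht, Complex.ofReal_eq_one.mp hC1]

lemma differentiableOn_theta : DifferentiableOn ℂ (theta B) {z : ℂ | 0 < z.im} := by
  intro z hz
  simp only [Set.mem_ofPred_eq] at hz
  have hU : IsOpen {w : ℂ | z.im / 2 < w.im} := isOpen_lt continuous_const Complex.continuous_im
  have hd : DifferentiableOn ℂ (theta B) {w : ℂ | z.im / 2 < w.im} := by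
    refine differentiableOn_tsum_of_summable_norm (hB.summable_exp (half_pos hz))
      (fun x => by fun_prop) hU fun x w hw => ?_
    rw [hB.norm_term, Real.exp_le_exp]
    have h1 : (0 : ℝ) ≤ (qZ B x : ℝ) := by exact_mod_cast hB.qZ_nonneg x
    simp only [Set.mem_ofPred_eq] at hw
    nlinarith [mul_le_mul_of_nonneg_right hw.le (mul_nonneg Real.pi_pos.le h1)]
  exact (hd.differentiableAt (hU.mem_nhds (show z.im / 2 < z.im by linarith))).differentiableWithinAt

lemma theta_add_one (z : ℂ) : theta B (z + 1) = theta B z := by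
  refine tsum_congr fun x => ?_
  obtain ⟨k, hk⟩ := hB.even x
  rw [hk, show (π * I * (z + 1) * ((2 * k : ℤ) : ℂ)) =
      π * I * z * ((2 * k : ℤ) : ℂ) + k * (2 * π * I) by push_cast; ring, Complex.exp_add,
    Complex.exp_int_mul_two_pi_mul_I, mul_one]

lemma hasSum_theta (τ : ℍ) :
    HasSum (fun m : ℕ => (repCount B m : ℂ) • Function.Periodic.qParam 1 τ ^ m)
      (theta B τ) := by
  let half : (Fin n → ℤ) → ℕ := fun x => (qZ B x / 2).toNat
  have hhalf : ∀ x m, half x = m ↔ qZ B x = 2 * (m : ℤ) := by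
    intro x m
    obtain ⟨k, hk⟩ := hB.even x
    have := hB.qZ_nonneg x
    simp only [half]
    omega
  have hs := (hB.summable_theta τ.im_pos).hasSum
  rw [← (Equiv.sigmaFiberEquiv half).hasSum_iff] at hs
  refine hs.sigma fun m => ?_
  have hfin : {x | half x = m}.Finite := by
    simp only [hhalf]; exact hB.finite_level _
  have : Fintype {x // half x = m} := hfin.fintype
  have hc : repCount B m = Fintype.card {x // half x = m} := by
    rw [repCount, ← Nat.card_eq_fintype_card, ← Nat.card_coe_set_eq]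
    exact Nat.card_congr (Equiv.subtypeEquivRight fun x => (hhalf x m).symm)
  convert! hasSum_fintype (L := SummationFilter.unconditional _)
    (fun x : {x // half x = m} => cexp (π * I * (τ : ℂ) * (qZ B x.1 : ℂ))) using 1
  rw [hc, smul_eq_mul, Finset.sum_congr rfl fun (x : {x // half x = m}) _ =>
    show cexp (π * I * (τ : ℂ) * (qZ B x.1 : ℂ)) = Function.Periodic.qParam 1 τ ^ m by
      rw [(hhalf x.1 m).mp x.2, Function.Periodic.qParam, ← Complex.exp_nat_mul]
      congr 1
      push_cast
      ring]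
  simp

lemma repCount_zero : repCount B 0 = 1 := by
  have : {x : Fin n → ℤ | qZ B x = 2 * ((0 : ℕ) : ℤ)} = {0} := by
    ext x
    simp only [Set.mem_ofPred_eq, Nat.cast_zero, mul_zero, Set.mem_singleton_iff]
    refine ⟨fun h => by_contra fun hx => (hB.pos x hx).ne' h, fun h => by simp [h, qZ]⟩
  rw [repCount, this, Set.ncard_singleton]

end EvenUnimodular

variable {B : Matrix (Fin 24) (Fin 24) ℤ}

lemma theta_inv (hB : EvenUnimodular B) {z : ℂ} (hz : 0 < z.im) :
    theta B (-z⁻¹) = z ^ 12 * theta B z := by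
  set U : Set ℂ := {z : ℂ | 0 < z.im} with hU
  have hopen : IsOpen U := isOpen_lt continuous_const Complex.continuous_im
  have hmap : Set.MapsTo (fun z : ℂ => -z⁻¹) U U := fun w hw => by
    simp only [hU, Set.mem_ofPred_eq] at hw ⊢
    rw [Complex.neg_im, Complex.inv_im, neg_div, neg_neg]
    exact div_pos hw (Complex.normSq_pos.mpr fun h => by simp [h] at hw)
  have hg : DifferentiableOn ℂ (fun z => theta B (-z⁻¹)) U :=
    hB.differentiableOn_theta.comp (fun w hw => by
      have hw0 : w ≠ 0 := fun h => by simp [hU, h] at hw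
      exact (differentiableAt_inv hw0).neg.differentiableWithinAt) hmap
  have hh : DifferentiableOn ℂ (fun z => z ^ 12 * theta B z) U :=
    (differentiableOn_pow 12).mul hB.differentiableOn_theta
  refine (hg.analyticOnNhd hopen).eqOn_of_preconnected_of_frequently_eq (hh.analyticOnNhd hopen)
    (convex_halfSpace_im_gt 0).isPreconnected (z₀ := I) (by simp [hU]) ?_ hz
  have htend : Tendsto (fun t : ℝ => I * (t : ℂ)) (𝓝[>] 1) (𝓝[≠] I) := by
    rw [tendsto_nhdsWithin_iff]
    refine ⟨?_, ?_⟩
    · have : Continuous fun t : ℝ => I * (t : ℂ) := by fun_prop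
      simpa using (this.tendsto 1).mono_left nhdsWithin_le_nhds
    · filter_upwards [self_mem_nhdsWithin] with t ht
      simp only [Set.mem_compl_iff, Set.mem_singleton_iff]
      intro h
      rw [mul_eq_left₀ I_ne_zero, Complex.ofReal_eq_one] at h
      exact ht.ne' h
  refine htend.frequently (Eventually.frequently ?_)
  filter_upwards [self_mem_nhdsWithin] with t ht
  have ht0 : (0 : ℝ) < t := one_pos.trans ht
  have htC : (t : ℂ) ≠ 0 := by exact_mod_cast ht0.ne'
  have e1 : -(I * (t : ℂ))⁻¹ = I * ((1 / t : ℝ) : ℂ) := by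
    rw [mul_inv, Complex.inv_I]; push_cast; ring
  have e2 : (Real.sqrt t ^ 24 : ℝ) = t ^ 12 := by
    rw [show 24 = 2 * 12 by norm_num, pow_mul, Real.sq_sqrt ht0.le]
  rw [e1, hB.theta_axis ht0, e2, mul_pow, show (I : ℂ) ^ 12 = 1 by
    rw [show 12 = 4 * 3 by norm_num, pow_mul, Complex.I_pow_four, one_pow]]
  push_cast
  field_simp

set_option backward.isDefEq.respectTransparency.types false in
lemma theta_slash_S (hB : EvenUnimodular B) :
    ((fun τ : ℍ => theta B τ) ∣[(12 : ℤ)] ModularGroup.S) = fun τ : ℍ => theta B τ := by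
  ext τ
  rw [SL_slash_apply, UpperHalfPlane.modular_S_smul]
  suffices theta B (-(τ : ℂ)⁻¹) * ((τ : ℂ) ^ 12)⁻¹ = theta B τ by
    simpa [denom, ModularGroup.S] using this
  rw [theta_inv hB τ.im_pos, mul_comm ((τ : ℂ) ^ 12), mul_assoc,
    mul_inv_cancel₀ (pow_ne_zero _ τ.ne_zero), mul_one]

set_option backward.isDefEq.respectTransparency.types false in
lemma theta_slash_T (hB : EvenUnimodular B) :
    ((fun τ : ℍ => theta B τ) ∣[(12 : ℤ)] ModularGroup.T) = fun τ : ℍ => theta B τ := by
  ext τ
  rw [SL_slash_apply, denom, UpperHalfPlane.modular_T_smul, ModularGroup.T]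
  simp [hB.theta_add_one, add_comm (1 : ℂ)]

/-- The theta series as a modular form. -/
noncomputable def thetaForm (hB : EvenUnimodular B) : ModularForm 𝒮ℒ 12 where
  toFun τ := theta B τ
  slash_action_eq' A hA := by
    obtain ⟨A, rfl⟩ := hA
    exact SlashInvariantForm.slash_action_generators_SL2Z (theta_slash_S hB) (theta_slash_T hB) A
  holo' := by
    rw [UpperHalfPlane.mdifferentiable_iff]
    exact hB.differentiableOn_theta.congr fun z hz => by simp [ofComplex_apply_of_im_pos hz]
  bdd_at_cusps' hc := by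
    rw [Subgroup.IsArithmetic.isCusp_iff_isCusp_SL2Z] at hc
    rw [OnePoint.isBoundedAt_iff_forall_SL2Z hc]
    intro γ _
    rw [SlashInvariantForm.slash_action_generators_SL2Z (theta_slash_S hB) (theta_slash_T hB)]
    exact isBoundedAtImInfty_of_hasSum_qExpansion one_pos hB.hasSum_theta

lemma thetaForm_coeff (hB : EvenUnimodular B) (m : ℕ) :
    (qExpansion 1 (thetaForm hB)).coeff m = (repCount B m : ℂ) :=
  (ModularFormClass.qExpansion_coeff_unique one_pos one_mem_strictPeriods_SL
    (f := thetaForm hB) hB.hasSum_theta m).symm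

/-- For an even unimodular lattice of rank 24 without roots the theta series is
`(7 E₄³ + 5 E₆²) / 12`. -/
lemma theta_qExpansion (hB : EvenUnimodular B) (h1 : repCount B 1 = 0) :
    qExpansion 1 (thetaForm hB) = (7 / 12 : ℂ) • qExpansion 1 E₄ ^ 3
      + (5 / 12 : ℂ) • qExpansion 1 E₆ ^ 2 := by
  set F : ModularForm 𝒮ℒ 12 := ModularForm.mcast (by norm_num) (E₄.pow 3)
  set G : ModularForm 𝒮ℒ 12 := ModularForm.mcast (by norm_num) (E₆.pow 2)
  set P : ModularForm 𝒮ℒ 12 := (7 / 12 : ℂ) • F + (5 / 12 : ℂ) • G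
  have hP : qExpansion 1 P = (7 / 12 : ℂ) • qExpansion 1 E₄ ^ 3
      + (5 / 12 : ℂ) • qExpansion 1 E₆ ^ 2 := by
    simp only [P, FunLike.coe_add]
    rw [ModularForm.qExpansion_add one_pos one_mem_strictPeriods_SL]
    simp only [FunLike.coe_smul]
    rw [ModularForm.qExpansion_smul one_pos one_mem_strictPeriods_SL,
      ModularForm.qExpansion_smul one_pos one_mem_strictPeriods_SL]
    simp only [F, G, ModularForm.qExpansion_mcast,
      ModularForm.qExpansion_pow one_pos one_mem_strictPeriods_SL]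
  suffices thetaForm hB - P = 0 by rw [sub_eq_zero.mp this, hP]
  refine ModularForm.sturm_bound_levelOne_nat (k := 12) ?_
  rw [FunLike.coe_sub, ModularForm.qExpansion_sub one_pos one_mem_strictPeriods_SL, hP]
  have hd : ∀ m < 2, (qExpansion 1 (thetaForm hB) - ((7 / 12 : ℂ) • qExpansion 1 E₄ ^ 3
      + (5 / 12 : ℂ) • qExpansion 1 E₆ ^ 2)).coeff m = 0 := by
    intro m hm
    interval_cases m <;>
    · simp only [map_sub, map_add, PowerSeries.coeff_smul, thetaForm_coeff, hB.repCount_zero, h1,
        pow_succ, pow_zero, one_mul, PowerSeries.coeff_mul,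
        Finset.Nat.sum_antidiagonal_eq_sum_range_succ_mk, Finset.sum_range_succ,
        Finset.sum_range_zero, zero_add, Nat.reduceSub, smul_eq_mul,
        EisensteinSeries.E_qExpansion_coeff_zero _ ⟨2, rfl⟩,
        EisensteinSeries.E_qExpansion_coeff_zero _ ⟨3, rfl⟩,
        ModularForm.E₄_qExpansion_coeff_one, ModularForm.E₆_qExpansion_coeff_one]
      norm_num
  refine lt_of_lt_of_le (by norm_num : ((12 / 12 : ℕ) : ℕ∞) < (2 : ℕ)) ?_
  exact PowerSeries.nat_le_order _ 2 hd

end Cfsg.Agent.Theta24
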