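import Mathlib

/-!
# Poisson summation for Gaussians attached to real symmetric forms

For a symmetric positive semidefinite real matrix `A` with a right inverse `V` we show that there
is a constant `C > 0` with
`∑ₓ exp (-π t A[x + z]) = C / (√t)ⁿ * ∑_y exp (-π/t V[y] + 2πi y·z)` for all `t > 0` and complex
`z`, by induction on the dimension, starting from the one dimensional formula in Mathlib.
-/

set_option autoImplicit false

open Real Complex Finset

namespace Cfsg.Agent.Theta24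

variable {n : ℕ}

/-- The quadratic form of a real matrix on real vectors. -/
def qR (A : Matrix (Fin n) (Fin n) ℝ) (v : Fin n → ℝ) : ℝ := ∑ i, ∑ j, A i j * v i * v j

/-- The quadratic form of a real matrix on complex vectors. -/
noncomputable def qC (A : Matrix (Fin n) (Fin n) ℝ) (v : Fin n → ℂ) : ℂ :=
  ∑ i, ∑ j, (A i j : ℂ) * v i * v j

/-- An integer vector as a real vector. -/
def rv (x : Fin n → ℤ) : Fin n → ℝ := fun i => (x i : ℝ)

lemma qC_ofReal (A : Matrix (Fin n) (Fin n) ℝ) (v : Fin n → ℝ) :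
    qC A (fun i => (v i : ℂ)) = (qR A v : ℂ) := by
  simp [qC, qR]

lemma qC_re (A : Matrix (Fin n) (Fin n) ℝ) (v : Fin n → ℂ) :
    (qC A v).re = qR A (fun i => (v i).re) - qR A (fun i => (v i).im) := by
  simp only [qC, qR, Complex.re_sum, Complex.mul_re, Complex.ofReal_re, Complex.ofReal_im,
    zero_mul, sub_zero, Complex.mul_im, add_zero, Finset.sum_sub_distrib]

lemma rv_sq_add (x : Fin n → ℤ) (r : Fin n → ℝ) :
    (1 / 2) * (∑ i, (x i : ℝ) ^ 2) - ∑ i, r i ^ 2 ≤ ∑ i, ((x i : ℝ) + r i) ^ 2 := by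
  rw [Finset.mul_sum, ← Finset.sum_sub_distrib]
  exact Finset.sum_le_sum fun i _ => by nlinarith [sq_nonneg ((x i : ℝ) + 2 * r i)]

lemma abs_qR_le (A : Matrix (Fin n) (Fin n) ℝ) (v : Fin n → ℝ) :
    qR A v ≤ (∑ i, ∑ j, |A i j|) * ∑ k, v k ^ 2 := by
  rw [Finset.sum_mul]
  refine Finset.sum_le_sum fun i _ => ?_
  rw [Finset.sum_mul]
  refine Finset.sum_le_sum fun j _ => ?_
  have hi : v i ^ 2 ≤ ∑ k, v k ^ 2 :=
    Finset.single_le_sum (f := fun k => v k ^ 2) (fun k _ => sq_nonneg _) (Finset.mem_univ i)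
  have hj : v j ^ 2 ≤ ∑ k, v k ^ 2 :=
    Finset.single_le_sum (f := fun k => v k ^ 2) (fun k _ => sq_nonneg _) (Finset.mem_univ j)
  have h1 : |v i * v j| ≤ ∑ k, v k ^ 2 := by
    rw [abs_le]
    constructor <;> nlinarith [sq_nonneg (v i - v j), sq_nonneg (v i + v j)]
  calc A i j * v i * v j ≤ |A i j * v i * v j| := le_abs_self _
    _ = |A i j| * |v i * v j| := by rw [mul_assoc, abs_mul]
    _ ≤ _ := mul_le_mul_of_nonneg_left h1 (abs_nonneg _)

lemma qR_symm_cross (A : Matrix (Fin n) (Fin n) ℝ) (hA : A.IsSymm) (u v : Fin n → ℝ) :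
    (∑ i, ∑ j, A i j * u i * v j) = ∑ i, ∑ j, A i j * v i * u j := by
  rw [Finset.sum_comm]
  refine Finset.sum_congr rfl fun i _ => Finset.sum_congr rfl fun j _ => ?_
  rw [hA.apply j i]; ring

lemma qR_smul_sub (A : Matrix (Fin n) (Fin n) ℝ) (hA : A.IsSymm) (u v : Fin n → ℝ) (k : ℝ) :
    qR A (fun i => u i - k * v i) =
      qR A u - 2 * k * (∑ i, ∑ j, A i j * u i * v j) + k ^ 2 * qR A v := by
  have h := qR_symm_cross A hA u v
  have : qR A (fun i => u i - k * v i) = qR A u - k * (∑ i, ∑ j, A i j * u i * v j)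
      - k * (∑ i, ∑ j, A i j * v i * u j) + k ^ 2 * qR A v := by
    simp only [qR, Finset.mul_sum, ← Finset.sum_sub_distrib, ← Finset.sum_add_distrib]
    exact Finset.sum_congr rfl fun i _ => Finset.sum_congr rfl fun j _ => by ring
  rw [this, ← h]; ring

lemma mul_right_inv_row {A V : Matrix (Fin n) (Fin n) ℝ} (h : A * V = 1) (u y : Fin n → ℝ) :
    (∑ i, ∑ j, A i j * u i * (V.mulVec y) j) = ∑ i, u i * y i := by
  refine Finset.sum_congr rfl fun i _ => ?_
  have : (A.mulVec (V.mulVec y)) i = y i := by rw [Matrix.mulVec_mulVec, h, Matrix.one_mulVec]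
  rw [← this, Matrix.mulVec, dotProduct, Finset.mul_sum]
  exact Finset.sum_congr rfl fun j _ => by ring

lemma symm_of_right_inv {A V : Matrix (Fin n) (Fin n) ℝ} (hA : A.IsSymm) (h : A * V = 1) :
    V.IsSymm := by
  have h' : V.transpose * A = 1 := by
    have := congrArg Matrix.transpose h
    rwa [Matrix.transpose_mul, hA.eq, Matrix.transpose_one] at this
  exact left_inv_eq_right_inv h' h

lemma qR_mulVec_inv {A V : Matrix (Fin n) (Fin n) ℝ} (h : A * V = 1) (y : Fin n → ℝ) :
    qR A (V.mulVec y) = qR V y := by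
  rw [qR, mul_right_inv_row h, qR]
  refine Finset.sum_congr rfl fun i _ => ?_
  rw [Matrix.mulVec, dotProduct, Finset.sum_mul]
  exact Finset.sum_congr rfl fun j _ => by ring

/-- A psd symmetric matrix with a right inverse is coercive. -/
lemma coercive {A V : Matrix (Fin n) (Fin n) ℝ} (hA : A.IsSymm) (hpsd : ∀ v, 0 ≤ qR A v)
    (h : A * V = 1) : ∃ ε : ℝ, 0 < ε ∧ ∀ v, ε * ∑ k, v k ^ 2 ≤ qR A v := by
  set M := ∑ i, ∑ j, |V i j| with hM
  have hM0 : 0 ≤ M := Finset.sum_nonneg fun i _ => Finset.sum_nonneg fun j _ => abs_nonneg _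
  set δ := 1 / (M + 1) with hδ
  have hδ0 : 0 < δ := by positivity
  refine ⟨δ, hδ0, fun v => ?_⟩
  have h0 := hpsd (fun i => v i - δ * (V.mulVec v) i)
  rw [qR_smul_sub A hA, mul_right_inv_row h, qR_mulVec_inv h] at h0
  have h1 : qR V v ≤ M * ∑ k, v k ^ 2 := abs_qR_le V v
  have h2 : (∑ i, v i * v i) = ∑ k, v k ^ 2 := Finset.sum_congr rfl fun i _ => by ring
  rw [h2] at h0
  have h3 : δ * M ≤ 1 := by rw [hδ]; field_simp; linarith
  have h4 : 0 ≤ ∑ k, v k ^ 2 := Finset.sum_nonneg fun k _ => sq_nonneg _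
  have h5 : δ ^ 2 * qR V v ≤ δ ^ 2 * (M * ∑ k, v k ^ 2) :=
    mul_le_mul_of_nonneg_left h1 (sq_nonneg _)
  nlinarith [mul_le_mul_of_nonneg_right h3 (mul_nonneg hδ0.le h4)]

/-! ### Summability -/

lemma summable_gauss_one (ε l : ℝ) (hε : 0 < ε) :
    Summable fun k : ℤ => Real.exp (-ε * (k : ℝ) ^ 2 + l * k) := by
  have hb : Summable fun k : ℤ => Real.exp ((|l| + 1) ^ 2 / (4 * ε)) * Real.exp (-|(k : ℝ)|) := by
    refine Summable.mul_left _ (Summable.of_nat_of_neg ?_ ?_) <;>
      simpa using Real.summable_exp_neg_nat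
  refine hb.of_nonneg_of_le (fun k => (Real.exp_pos _).le) fun k => ?_
  rw [← Real.exp_add, Real.exp_le_exp]
  have h1 : l * k ≤ |l| * |(k : ℝ)| := by rw [← abs_mul]; exact le_abs_self _
  have h2 : (|l| + 1) * |(k : ℝ)| ≤ ε * (k : ℝ) ^ 2 + (|l| + 1) ^ 2 / (4 * ε) := by
    have := sq_nonneg (2 * ε * |(k : ℝ)| - (|l| + 1))
    rw [← sq_abs (k : ℝ), ← sub_nonneg]
    have e : ε * |(k : ℝ)| ^ 2 + (|l| + 1) ^ 2 / (4 * ε) - (|l| + 1) * |(k : ℝ)|
        = (2 * ε * |(k : ℝ)| - (|l| + 1)) ^ 2 / (4 * ε) := by field_simp; ring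
    rw [e]; positivity
  linarith

lemma summable_gauss : ∀ (n : ℕ) (ε : ℝ) (l : Fin n → ℝ), 0 < ε →
    Summable fun x : Fin n → ℤ => Real.exp (-ε * (∑ i, (x i : ℝ) ^ 2) + ∑ i, l i * x i)
  | 0, _, _, _ => Summable.of_finite
  | n + 1, ε, l, hε => by
      rw [← (Fin.consEquiv fun _ : Fin (n + 1) => ℤ).summable_iff]
      refine ((summable_gauss_one ε (l 0) hε).mul_of_nonneg
        (summable_gauss n ε (fun i => l i.succ) hε) (fun k => (Real.exp_pos _).le)
        (fun k => (Real.exp_pos _).le)).congr fun p => ?_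
      rw [Function.comp_apply, ← Real.exp_add]
      congr 1
      simp only [Fin.consEquiv_apply, Fin.sum_univ_succ, Fin.cons_zero, Fin.cons_succ]
      ring

lemma summable_cexp_of_re_le (P : (Fin n → ℤ) → ℂ) (ε : ℝ) (l : Fin n → ℝ) (K : ℝ) (hε : 0 < ε)
    (h : ∀ x, (P x).re ≤ -ε * (∑ i, (x i : ℝ) ^ 2) + (∑ i, l i * x i) + K) :
    Summable fun x => ‖cexp (P x)‖ := by
  refine ((summable_gauss n ε l hε).mul_right (Real.exp K)).of_nonneg_of_le
    (fun x => norm_nonneg _) fun x => ?_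
  rw [Complex.norm_exp, ← Real.exp_add, Real.exp_le_exp]
  exact h x

/-- The left hand side term of the Poisson formula. -/
noncomputable def lterm (A : Matrix (Fin n) (Fin n) ℝ) (t : ℝ) (z : Fin n → ℂ)
    (x : Fin n → ℤ) : ℂ :=
  cexp (-π * t * qC A (fun i => (x i : ℂ) + z i))

/-- The right hand side term of the Poisson formula. -/
noncomputable def rterm (V : Matrix (Fin n) (Fin n) ℝ) (t : ℝ) (z : Fin n → ℂ)
    (y : Fin n → ℤ) : ℂ :=
  cexp (-π / t * (qR V (rv y) : ℂ) + 2 * π * I * ∑ i, (y i : ℂ) * z i)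

lemma summable_lterm {A V : Matrix (Fin n) (Fin n) ℝ} (hA : A.IsSymm) (hpsd : ∀ v, 0 ≤ qR A v)
    (h : A * V = 1) {t : ℝ} (ht : 0 < t) (z : Fin n → ℂ) :
    Summable fun x => ‖lterm A t z x‖ := by
  obtain ⟨ε, hε, hco⟩ := coercive hA hpsd h
  refine summable_cexp_of_re_le _ (π * t * ε / 2) 0
    (π * t * ε * (∑ i, (z i).re ^ 2) + π * t * qR A (fun i => (z i).im)) (by positivity) fun x => ?_
  rw [show (-π * t : ℂ) = ((-π * t : ℝ) : ℂ) by push_cast; ring, Complex.re_ofReal_mul, qC_re]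
  simp only [Complex.add_re, Complex.add_im, Complex.intCast_re, Complex.intCast_im, zero_add,
    Pi.zero_apply, zero_mul, Finset.sum_const_zero, add_zero]
  have h1 := hco (fun i => (x i : ℝ) + (z i).re)
  have h2 := rv_sq_add x (fun i => (z i).re)
  have hpt : 0 < π * t := by positivity
  nlinarith [mul_le_mul_of_nonneg_left h1 hpt.le,
    mul_le_mul_of_nonneg_left h2 (mul_nonneg hpt.le hε.le)]

lemma summable_rterm {A V : Matrix (Fin n) (Fin n) ℝ} (hA : A.IsSymm) (hpsd : ∀ v, 0 ≤ qR A v)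
    (h : A * V = 1) {t : ℝ} (ht : 0 < t) (z : Fin n → ℂ) :
    Summable fun y => ‖rterm V t z y‖ := by
  have h' : V * A = 1 := mul_eq_one_comm.mp h
  obtain ⟨ε, hε, hco⟩ := coercive (symm_of_right_inv hA h)
    (fun v => by rw [← qR_mulVec_inv h]; exact hpsd _) h'
  refine summable_cexp_of_re_le _ (π / t * ε) (fun i => -2 * π * (z i).im) 0 (by positivity)
    fun y => ?_
  rw [show (-π / t : ℂ) = ((-π / t : ℝ) : ℂ) by push_cast; ring,
    show (2 * π * I : ℂ) = ((2 * π : ℝ) : ℂ) * I by push_cast; ring, Complex.add_re,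
    Complex.re_ofReal_mul, Complex.ofReal_re, mul_assoc, Complex.re_ofReal_mul, Complex.I_mul_re,
    Complex.im_sum]
  simp only [Complex.mul_im, Complex.intCast_re, Complex.intCast_im, zero_mul, add_zero]
  have h1 := hco (rv y)
  have hpt : 0 < π / t := by positivity
  have h2 := mul_le_mul_of_nonneg_left h1 hpt.le
  have h3 : (∑ i, -2 * π * (z i).im * (y i : ℝ)) = 2 * π * -(∑ i, (y i : ℝ) * (z i).im) := by
    rw [← Finset.sum_neg_distrib, Finset.mul_sum]
    exact Finset.sum_congr rfl fun i _ => by ring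
  simp only [rv] at h2 ⊢
  rw [h3]
  have h4 : -π / t = -(π / t) := neg_div _ _
  rw [h4]
  linarith

/-! ### One dimension -/

lemma poisson_one {α : ℝ} (hα : 0 < α) (w : ℂ) :
    ∑' k : ℤ, cexp (-π * α * ((k : ℂ) + w) ^ 2) =
      ((Real.sqrt α)⁻¹ : ℝ) * ∑' k : ℤ, cexp (-π / α * (k : ℂ) ^ 2 + 2 * π * I * k * w) := by
  have hα' : (α : ℂ) ≠ 0 := by exact_mod_cast hα.ne'
  have h := Complex.tsum_exp_neg_quadratic (a := (α : ℂ)) (by simpa using hα) (-α * w)
  have hs : ((α : ℂ) ^ (1 / 2 : ℂ)) = ((Real.sqrt α : ℝ) : ℂ) := by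
    rw [Real.sqrt_eq_rpow, Complex.ofReal_cpow hα.le]; norm_num
  have e1 : ∀ k : ℤ, cexp (-π * α * ((k : ℂ) + w) ^ 2) =
      cexp (-π * α * w ^ 2) * cexp (-π * α * (k : ℂ) ^ 2 + 2 * π * (-α * w) * k) := by
    intro k; rw [← Complex.exp_add]; congr 1; ring
  have e2 : ∀ k : ℤ, cexp (-π / α * ((k : ℂ) + I * (-α * w)) ^ 2) =
      cexp (π * α * w ^ 2) * cexp (-π / α * (k : ℂ) ^ 2 + 2 * π * I * k * w) := by
    intro k; rw [← Complex.exp_add]; congr 1
    field_simp
    ring_nf
    rw [I_sq]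
    ring
  rw [tsum_congr e1, tsum_mul_left, h, tsum_congr e2, tsum_mul_left, hs, ← mul_assoc, ← mul_assoc,
    Complex.ofReal_inv, one_div]
  congr 1
  rw [mul_right_comm, ← Complex.exp_add]
  simp

/-! ### The induction -/

section Step

variable (A : Matrix (Fin (n + 1)) (Fin (n + 1)) ℝ)

/-- The Schur complement of the upper left entry. -/
noncomputable def schur : Matrix (Fin n) (Fin n) ℝ :=
  fun i j => A i.succ j.succ - A 0 i.succ * A 0 j.succ / A 0 0

lemma schur_symm (hA : A.IsSymm) : (schur A).IsSymm :=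
  Matrix.IsSymm.ext fun i j => by
    simp only [schur]; rw [hA.apply i.succ j.succ]; ring

lemma qC_cons (hA : A.IsSymm) (ha : A 0 0 ≠ 0) (w : ℂ) (v : Fin n → ℂ) :
    qC A (Fin.cons w v) =
      (A 0 0 : ℂ) * (w + (∑ i, (A 0 i.succ : ℂ) * v i) / (A 0 0 : ℂ)) ^ 2 + qC (schur A) v := by
  have ha' : (A 0 0 : ℂ) ≠ 0 := by exact_mod_cast ha
  have h1 : qC (schur A) v = (∑ i, ∑ j, (A i.succ j.succ : ℂ) * v i * v j)
      - (∑ i, (A 0 i.succ : ℂ) * v i) * (∑ i, (A 0 i.succ : ℂ) * v i) / (A 0 0 : ℂ) := by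
    rw [Finset.sum_mul_sum, Finset.sum_div, ← Finset.sum_sub_distrib]
    refine Finset.sum_congr rfl fun i _ => ?_
    rw [Finset.sum_div, ← Finset.sum_sub_distrib]
    refine Finset.sum_congr rfl fun j _ => ?_
    simp only [schur]
    push_cast
    field_simp
  have h2 : (∑ i : Fin n, (A i.succ 0 : ℂ) * v i * w) = w * ∑ i, (A 0 i.succ : ℂ) * v i := by
    rw [Finset.mul_sum]
    exact Finset.sum_congr rfl fun i _ => by rw [hA.apply 0 i.succ]; ring
  have h3 : (∑ j : Fin n, (A 0 j.succ : ℂ) * w * v j) = w * ∑ i, (A 0 i.succ : ℂ) * v i := by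
    rw [Finset.mul_sum]
    exact Finset.sum_congr rfl fun i _ => by ring
  rw [h1]
  simp only [qC, Fin.sum_univ_succ, Fin.cons_zero, Fin.cons_succ, Finset.sum_add_distrib]
  rw [h2, h3]
  field_simp
  ring

lemma qR_cons (hA : A.IsSymm) (ha : A 0 0 ≠ 0) (w : ℝ) (v : Fin n → ℝ) :
    qR A (Fin.cons w v) =
      A 0 0 * (w + (∑ i, A 0 i.succ * v i) / A 0 0) ^ 2 + qR (schur A) v := by
  have h := qC_cons A hA ha (w : ℂ) (fun i => (v i : ℂ))
  rw [show (Fin.cons (w : ℂ) fun i => (v i : ℂ) : Fin (n + 1) → ℂ)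
      = fun i => ((Fin.cons w v : Fin (n + 1) → ℝ) i : ℂ) from
    funext fun i => by cases i using Fin.cases <;> simp, qC_ofReal, qC_ofReal] at h
  exact_mod_cast h

lemma schur_psd (hA : A.IsSymm) (hpsd : ∀ v, 0 ≤ qR A v) (ha : A 0 0 ≠ 0) (v : Fin n → ℝ) :
    0 ≤ qR (schur A) v := by
  have h := hpsd (Fin.cons (-((∑ i, A 0 i.succ * v i) / A 0 0)) v)
  rw [qR_cons A hA ha] at h
  simpa using h

variable {A} {V : Matrix (Fin (n + 1)) (Fin (n + 1)) ℝ}

lemma row_zero (h : A * V = 1) (k : Fin n) :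
    (∑ j : Fin n, A 0 j.succ * V j.succ k.succ) = -(A 0 0 * V 0 k.succ) := by
  have := congrFun (congrFun h 0) k.succ
  rw [Matrix.mul_apply, Fin.sum_univ_succ, Matrix.one_apply_ne (Fin.succ_ne_zero k).symm] at this
  linarith

lemma schur_inv (hA : A.IsSymm) (ha : A 0 0 ≠ 0) (h : A * V = 1) :
    schur A * V.submatrix Fin.succ Fin.succ = 1 := by
  ext i k
  have h1 := congrFun (congrFun h i.succ) k.succ
  rw [Matrix.mul_apply, Fin.sum_univ_succ, hA.apply 0 i.succ] at h1
  have h3 : (∑ j : Fin n, A 0 i.succ * A 0 j.succ / A 0 0 * V j.succ k.succ)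
      = A 0 i.succ / A 0 0 * ∑ j : Fin n, A 0 j.succ * V j.succ k.succ := by
    rw [Finset.mul_sum]
    exact Finset.sum_congr rfl fun j _ => by ring
  rw [Matrix.mul_apply]
  simp only [schur, Matrix.submatrix_apply, sub_mul, Finset.sum_sub_distrib]
  rw [h3, row_zero h k]
  have h4 : (1 : Matrix (Fin (n + 1)) (Fin (n + 1)) ℝ) i.succ k.succ =
      (1 : Matrix (Fin n) (Fin n) ℝ) i k := by
    by_cases hik : i = k <;> simp [hik, Matrix.one_apply]
  rw [← h4, ← h1]
  field_simp
  ring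

lemma qR_inv_split (hA : A.IsSymm) (ha : A 0 0 ≠ 0) (h : A * V = 1) (y0 : ℝ) (y : Fin n → ℝ) :
    qR V (Fin.cons y0 y) = y0 ^ 2 / A 0 0 +
      qR (V.submatrix Fin.succ Fin.succ) (fun i => y i - y0 / A 0 0 * A 0 i.succ) := by
  have hV : V.IsSymm := symm_of_right_inv hA h
  set V' := V.submatrix Fin.succ Fin.succ with hV'
  rw [qR_smul_sub V' (hV.submatrix _) y (fun i => A 0 i.succ) (y0 / A 0 0)]
  have r0 : A 0 0 * V 0 0 + ∑ j : Fin n, A 0 j.succ * V j.succ 0 = 1 := by
    have := congrFun (congrFun h 0) 0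
    rwa [Matrix.mul_apply, Fin.sum_univ_succ, Matrix.one_apply_eq] at this
  have e1 : (∑ i, ∑ j, V' i j * y i * A 0 j.succ) = -(A 0 0) * ∑ i, y i * V 0 i.succ := by
    rw [Finset.mul_sum]
    refine Finset.sum_congr rfl fun i _ => ?_
    rw [show -(A 0 0) * (y i * V 0 i.succ) = y i * -(A 0 0 * V 0 i.succ) by ring, ← row_zero h i,
      Finset.mul_sum]
    refine Finset.sum_congr rfl fun j _ => ?_
    rw [hV', Matrix.submatrix_apply, ← hV.apply i.succ j.succ]; ring
  have e2 : qR V' (fun i => A 0 i.succ) = -(A 0 0) * (1 - A 0 0 * V 0 0) := by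
    rw [← eq_sub_of_add_eq' r0, Finset.mul_sum, qR]
    refine Finset.sum_congr rfl fun i _ => ?_
    rw [show -(A 0 0) * (A 0 i.succ * V i.succ 0) = A 0 i.succ * -(A 0 0 * V 0 i.succ) by
      rw [hV.apply 0 i.succ]; ring, ← row_zero h i, Finset.mul_sum]
    refine Finset.sum_congr rfl fun j _ => ?_
    rw [hV', Matrix.submatrix_apply, ← hV.apply i.succ j.succ]; ring
  have e3 : qR V (Fin.cons y0 y) =
      V 0 0 * y0 ^ 2 + 2 * y0 * (∑ i, y i * V 0 i.succ) + qR V' y := by
    have f1 : (∑ j : Fin n, V 0 j.succ * y0 * y j) = y0 * ∑ i, y i * V 0 i.succ := by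
      rw [Finset.mul_sum]; exact Finset.sum_congr rfl fun j _ => by ring
    have f2 : (∑ j : Fin n, V j.succ 0 * y j * y0) = y0 * ∑ i, y i * V 0 i.succ := by
      rw [Finset.mul_sum]; exact Finset.sum_congr rfl fun j _ => by rw [hV.apply 0 j.succ]; ring
    simp only [qR, Fin.sum_univ_succ, Fin.cons_zero, Fin.cons_succ, Finset.sum_add_distrib, hV',
      Matrix.submatrix_apply]
    rw [f1, f2]; ring
  rw [e1, e2, e3]
  field_simp
  ring

end Step

/-- Completing the square with an imaginary shift. -/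
lemma qC_shift {S V : Matrix (Fin n) (Fin n) ℝ} (hS : S.IsSymm) (h : S * V = 1)
    (v : Fin n → ℂ) (s : Fin n → ℝ) (k : ℂ) :
    qC S (fun i => v i - k * (V.mulVec s i : ℂ)) =
      qC S v - 2 * k * (∑ i, (s i : ℂ) * v i) + k ^ 2 * (qR V s : ℂ) := by
  set u := V.mulVec s with hu
  have hrow : ∀ i, (∑ j, (S i j : ℂ) * (u j : ℂ)) = (s i : ℂ) := by
    intro i
    have : (S.mulVec u) i = s i := by rw [hu, Matrix.mulVec_mulVec, h, Matrix.one_mulVec]
    rw [← this, Matrix.mulVec, dotProduct]; push_cast; rfl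
  have hcol : ∀ j, (∑ i, (S i j : ℂ) * (u i : ℂ)) = (s j : ℂ) := by
    intro j
    rw [← hrow j]
    exact Finset.sum_congr rfl fun i _ => by rw [hS.apply j i]
  have e : qC S (fun i => v i - k * (u i : ℂ)) =
      qC S v - k * (∑ i, v i * ∑ j, (S i j : ℂ) * (u j : ℂ))
        - k * (∑ j, v j * ∑ i, (S i j : ℂ) * (u i : ℂ))
        + k ^ 2 * (∑ i, (u i : ℂ) * ∑ j, (S i j : ℂ) * (u j : ℂ)) := by
    have c : (∑ j, v j * ∑ i, (S i j : ℂ) * (u i : ℂ))
        = ∑ i, ∑ j, v j * ((S i j : ℂ) * (u i : ℂ)) := by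
      simp only [Finset.mul_sum]; rw [Finset.sum_comm]
    rw [c]
    simp only [qC, Finset.mul_sum, ← Finset.sum_sub_distrib, ← Finset.sum_add_distrib]
    exact Finset.sum_congr rfl fun i _ => Finset.sum_congr rfl fun j _ => by ring
  rw [e]
  simp only [hrow, hcol]
  have q1 : (∑ i, (u i : ℂ) * (s i : ℂ)) = (qR V s : ℂ) := by
    rw [← qR_mulVec_inv h, ← hu, ← qC_ofReal]
    refine Finset.sum_congr rfl fun i _ => ?_
    rw [← hrow i, Finset.mul_sum]
    exact Finset.sum_congr rfl fun j _ => by ring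
  rw [q1, Finset.sum_congr rfl fun i _ => mul_comm (v i) (s i : ℂ)]
  ring

/-- **Poisson summation for Gaussians.** -/
theorem poisson : ∀ (n : ℕ) (A V : Matrix (Fin n) (Fin n) ℝ), A.IsSymm → (∀ v, 0 ≤ qR A v) →
    A * V = 1 → ∃ C : ℝ, 0 < C ∧ ∀ (t : ℝ), 0 < t → ∀ z : Fin n → ℂ,
      ∑' x, lterm A t z x = ((C / Real.sqrt t ^ n : ℝ) : ℂ) * ∑' y, rterm V t z y
  | 0, A, V, _, _, _ => ⟨1, one_pos, fun t _ z => by
      simp [lterm, rterm, qC, qR]⟩
  | n + 1, A, V, hA, hpsd, hAV => by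
      obtain ⟨ε, hε, hco⟩ := coercive hA hpsd hAV
      have ha0 : 0 < A 0 0 := by
        have := hco (Fin.cons 1 0)
        simp [qR, Fin.sum_univ_succ] at this
        linarith
      set a := A 0 0 with hadef
      have hane : a ≠ 0 := ha0.ne'
      have haC : (a : ℂ) ≠ 0 := by exact_mod_cast hane
      set V' := V.submatrix Fin.succ Fin.succ with hV'
      have hS : schur A * V' = 1 := schur_inv hA hane hAV
      have hSsym : (schur A).IsSymm := schur_symm A hA
      have hSpsd : ∀ v, 0 ≤ qR (schur A) v := schur_psd A hA hpsd hane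
      have hV'sym : V'.IsSymm := (symm_of_right_inv hA hAV).submatrix _
      obtain ⟨C, hC, hIH⟩ := poisson n (schur A) V' hSsym hSpsd hS
      refine ⟨C / Real.sqrt a, by positivity, fun t ht z => ?_⟩
      have htC : (t : ℂ) ≠ 0 := by exact_mod_cast ht.ne'
      set z' : Fin n → ℂ := fun i => z i.succ with hz'
      let c : Fin n → ℝ := fun i => A 0 i.succ
      let F : (Fin n → ℤ) → ℤ → ℂ := fun x k =>
        cexp (-π * t * qC (schur A) (fun i => (x i : ℂ) + z' i)) *
          cexp (-π / (t * a : ℝ) * (k : ℂ) ^ 2 +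
            2 * π * I * k * (z 0 + (∑ i, (c i : ℂ) * ((x i : ℂ) + z' i)) / a))
      set σ : ℂ := (((Real.sqrt (t * a))⁻¹ : ℝ) : ℂ) with hσ
      -- summation over the first coordinate
      let e : (Fin n → ℤ) × ℤ ≃ (Fin (n + 1) → ℤ) :=
        (Equiv.prodComm _ _).trans (Fin.consEquiv fun _ => ℤ)
      have hL : ∑' x, lterm A t z x = σ * ∑' x : Fin n → ℤ, ∑' k : ℤ, F x k := by
        have hs : Summable fun p => lterm A t z (e p) :=
          (summable_lterm hA hpsd hAV ht z).of_norm.comp_injective e.injective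
        rw [← e.tsum_eq (lterm A t z), hs.tsum_prod, ← tsum_mul_left]
        refine tsum_congr fun x => ?_
        have hterm : ∀ k : ℤ, lterm A t z (e (x, k)) =
            cexp (-π * t * qC (schur A) (fun i => (x i : ℂ) + z' i)) *
              cexp (-π * (t * a : ℝ) *
                ((k : ℂ) + (z 0 + (∑ i, (c i : ℂ) * ((x i : ℂ) + z' i)) / a)) ^ 2) := by
          intro k
          rw [← Complex.exp_add, lterm]
          congr 1
          have hv : (fun i => ((e (x, k)) i : ℂ) + z i) =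
              Fin.cons ((k : ℂ) + z 0) (fun i => (x i : ℂ) + z' i) :=
            funext fun i => by cases i using Fin.cases <;> simp [e, hz', Fin.consEquiv]
          rw [hv, qC_cons A hA hane]
          simp only [c, hadef]
          push_cast
          ring
        rw [tsum_congr hterm, tsum_mul_left, poisson_one (mul_pos ht ha0), ← hσ, tsum_mul_left]
        ring
      -- interchanging the sums
      have hFs : Summable (Function.uncurry F) := by
        apply Summable.of_norm
        have h1 := summable_lterm hSsym hSpsd hS ht z'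
        have h2 : Summable fun k : ℤ => Real.exp (-(π / (t * a)) * (k : ℝ) ^ 2 +
            (-2 * π * ((z 0).im + (∑ i, c i * (z' i).im) / a)) * k) :=
          summable_gauss_one _ _ (by positivity)
        refine (h1.mul_of_nonneg h2 (fun x => norm_nonneg _) (fun k => (Real.exp_pos _).le)).congr
          fun p => ?_
        obtain ⟨x, k⟩ := p
        simp only [Function.uncurry, F, lterm, norm_mul]
        congr 1
        rw [Complex.norm_exp]
        congr 1
        rw [show (-π / (t * a : ℝ) : ℂ) = ((-π / (t * a) : ℝ) : ℂ) by push_cast; ring,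
          show (2 * π * I * k : ℂ) = ((2 * π * k : ℝ) : ℂ) * I by push_cast; ring,
          show ((k : ℂ) ^ 2) = (((k : ℝ) ^ 2 : ℝ) : ℂ) by push_cast; ring,
          Complex.add_re, Complex.re_ofReal_mul, Complex.ofReal_re,
          mul_assoc ((2 * π * k : ℝ) : ℂ) I, Complex.re_ofReal_mul, Complex.I_mul_re, Complex.add_im, Complex.div_ofReal_im,
          Complex.im_sum]
        simp only [Complex.mul_im, Complex.ofReal_re, Complex.ofReal_im, zero_mul, add_zero,
          Complex.add_im, Complex.intCast_im, zero_add]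
        ring
      -- the inner sums
      have hIn : ∀ k : ℤ, ∑' x : Fin n → ℤ, F x k = ((C / Real.sqrt t ^ n : ℝ) : ℂ) *
          ∑' y : Fin n → ℤ, rterm V t z (Fin.cons k y) := by
        intro k
        set s : Fin n → ℝ := fun i => (k : ℝ) / a * c i with hs
        set z'' : Fin n → ℂ := fun i => z' i - I / t * (V'.mulVec s i : ℂ) with hz''
        set K : ℂ := -π / t * (qR V' s : ℂ) - π / (t * a) * (k : ℂ) ^ 2 + 2 * π * I * k * z 0
          with hK
        have hx : ∀ x : Fin n → ℤ, F x k = cexp K * lterm (schur A) t z'' x := by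
          intro x
          simp only [F, lterm]
          rw [← Complex.exp_add, ← Complex.exp_add]
          congr 1
          have hsh := qC_shift hSsym hS (fun i => (x i : ℂ) + z' i) s (I / t)
          rw [show (fun i => (x i : ℂ) + z'' i) =
              (fun i => ((x i : ℂ) + z' i) - I / t * (V'.mulVec s i : ℂ)) from
            funext fun i => by rw [hz'']; ring, hsh]
          have hsum : (∑ i, (s i : ℂ) * ((x i : ℂ) + z' i)) =
              (k : ℂ) / a * ∑ i, (c i : ℂ) * ((x i : ℂ) + z' i) := by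
            rw [Finset.mul_sum]
            exact Finset.sum_congr rfl fun i _ => by rw [hs]; push_cast; ring
          rw [hsum, hK, div_pow, I_sq]
          push_cast
          field_simp
          ring
        rw [tsum_congr hx, tsum_mul_left, hIH t ht z'', mul_left_comm, ← tsum_mul_left]
        congr 1
        refine tsum_congr fun y => ?_
        simp only [rterm]
        rw [← Complex.exp_add]
        congr 1
        have hrv : rv (Fin.cons k y : Fin (n + 1) → ℤ) = Fin.cons (k : ℝ) (rv y) :=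
          funext fun i => by cases i using Fin.cases <;> simp [rv]
        have hsp := qR_inv_split hA hane hAV (k : ℝ) (rv y)
        rw [← hV', show (fun i => rv y i - (k : ℝ) / A 0 0 * A 0 i.succ) =
            (fun i => rv y i - 1 * s i) from funext fun i => by simp [hs, c, hadef],
          qR_smul_sub V' hV'sym] at hsp
        have hu : (∑ i, ∑ j, V' i j * rv y i * s j) = ∑ i, rv y i * V'.mulVec s i :=
          Finset.sum_congr rfl fun i _ => by
            rw [Matrix.mulVec, dotProduct, Finset.mul_sum]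
            exact Finset.sum_congr rfl fun j _ => by ring
        rw [hu] at hsp
        rw [hrv, hsp, ← hadef, hK, Fin.sum_univ_succ]
        simp only [Fin.cons_zero, Fin.cons_succ, hz'', mul_sub, Finset.sum_sub_distrib]
        have hyu : (∑ i, (y i : ℂ) * (I / t * (V'.mulVec s i : ℂ))) =
            I / t * ((∑ i, rv y i * V'.mulVec s i : ℝ) : ℂ) := by
          push_cast
          rw [Finset.mul_sum]
          exact Finset.sum_congr rfl fun i _ => by simp [rv]; ring
        rw [hyu]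
        push_cast
        field_simp
        ring_nf
        rw [I_sq]
        ring
      have hs : Summable fun p => rterm V t z ((Fin.consEquiv fun _ : Fin (n + 1) => ℤ) p) :=
        (summable_rterm hA hpsd hAV ht z).of_norm.comp_injective (Equiv.injective _)
      rw [hL, ← hFs.tsum_comm, tsum_congr hIn, tsum_mul_left,
        ← (Fin.consEquiv fun _ : Fin (n + 1) => ℤ).tsum_eq (rterm V t z), hs.tsum_prod,
        ← mul_assoc, hσ]
      congr 1
      rw [← Complex.ofReal_mul]
      congr 1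
      rw [Real.sqrt_mul ht.le, pow_succ]
      field_simp

end Cfsg.Agent.Theta24
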